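import Groth.Agent.S1864
import Groth.Agent.GrpdLib.InvOpen
import Groth.Agent.ChevAffine.Main
import Groth.Agent.GeomField.Descend
import Groth.Agent.GeomField.ConnComp
import Groth.Agent.H23.FFDescent
import Groth.Agent.FtPts6.Basic
import Groth.Agent.GrpSchLib.HomFinite
import Groth.Agent.GrpSchLib.CharZeroPts

/-!
# Finite sets of closed points of group schemes lie in affine opens
-/

universe u

open CategoryTheory CategoryTheory.Limits MonoidalCategory CartesianMonoidalCategory AlgebraicGeometry TopologicalSpace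

set_option backward.isDefEq.respectTransparency false
set_option backward.isDefEq.respectTransparency.types false

namespace Groth.Agent.H84GrpAffine

/-- An affine open upstairs containing the fibres over a finite set gives one downstairs. -/
theorem exists_affineOpen_of_finite_flat {X' X : Scheme.{u}} (π : X' ⟶ X) [IsFinite π] [Flat π]
    [LocallyOfFinitePresentation π] [Surjective π] [IsNoetherian X]
    {U' : X'.Opens} (hU' : IsAffineOpen U') {T : Set X} (hT : T.Finite) (hTU : π ⁻¹' T ⊆ U') :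
    ∃ W : X.Opens, IsAffineOpen W ∧ T ⊆ W := by
  let W₀ : X.Opens := ⟨(π '' (U' : Set X')ᶜ)ᶜ, (π.isClosedMap _ U'.2.isClosed_compl).isOpen_compl⟩
  have hW₀ : π ⁻¹ᵁ W₀ ≤ U' := fun x hx => by_contra fun h => hx ⟨x, h, rfl⟩
  have hTW₀ : T ⊆ W₀ := fun t ht ⟨x, hx, hxt⟩ => hx (hTU (show π x ∈ T from hxt.symm ▸ ht))
  obtain ⟨g, hgT, hgW⟩ := GrpdLib.exists_basicOpen_of_finite hU'
    (hT.preimage' fun t _ => π.finite_preimage_singleton t) (π ⁻¹ᵁ W₀) hTU (fun x hx => hTW₀ hx)
  let D : X'.Opens := X'.basicOpen g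
  let W : X.Opens := ⟨(π '' (D : Set X')ᶜ)ᶜ, (π.isClosedMap _ D.2.isClosed_compl).isOpen_compl⟩
  have hmem : ∀ w, w ∈ W ↔ ∀ x, π x = w → x ∈ D := fun w =>
    ⟨fun h x hx => by_contra fun h' => h ⟨x, h', hx⟩, fun h ⟨x, hx, hxw⟩ => hx (h x hxw)⟩
  have hWD : π ⁻¹ᵁ W ≤ D := fun x hx => (hmem _).1 hx x rfl
  refine ⟨W, ?_, fun t ht => (hmem t).2 fun x hx => hgT (show π x ∈ T from hx.symm ▸ ht)⟩
  have hD : IsAffineOpen D := hU'.basicOpen g
  have : IsAffine D.toScheme := hD
  let j := X'.homOfLE hWD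
  have : IsAffineHom j := by
    refine isAffineHom_of_forall_exists_isAffineOpen _ fun y => ?_
    obtain ⟨_, ⟨A, hA, rfl⟩, hyA, hAW⟩ := X.isBasis_affineOpens.exists_subset_of_mem_open
      (show π y.1 ∈ (W₀ : Set X) from hgW y.2) W₀.2
    have hAU : π ⁻¹ᵁ A ≤ U' := le_trans (fun x hx => hAW hx) hW₀
    let g' : Γ(X', π ⁻¹ᵁ A) := X'.presheaf.map (homOfLE hAU).op g
    have hg' : X'.basicOpen g' = π ⁻¹ᵁ A ⊓ D := X'.basicOpen_res g (homOfLE hAU).op
    obtain ⟨N, hN⟩ := GrpdLib.exists_norm_basicOpen π hA g'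
    have hWA : W ⊓ A = X.basicOpen N := by
      ext w
      refine ⟨fun ⟨hw, hwA⟩ => (hN w).2 ⟨hwA, fun r hr => hg'.ge ⟨show π r ∈ A from hr.symm ▸ hwA, (hmem w).1 hw r hr⟩⟩,
        fun hw => ⟨(hmem w).2 fun r hr => (hg'.le (((hN w).1 hw).2 r hr)).2, ((hN w).1 hw).1⟩⟩
    refine ⟨D.ι ⁻¹ᵁ (π ⁻¹ᵁ A), hyA, ?_, ?_⟩
    · refine D.ι.isAffineOpen_iff_of_isOpenImmersion.1 ?_
      rw [Scheme.Hom.image_preimage_eq_opensRange_inf, Scheme.Opens.opensRange_ι, inf_comm, ← hg']
      exact (hA.preimage π).basicOpen g'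
    · refine (π ⁻¹ᵁ W).ι.isAffineOpen_iff_of_isOpenImmersion.1 ?_
      rw [show j ⁻¹ᵁ (D.ι ⁻¹ᵁ (π ⁻¹ᵁ A)) = (π ⁻¹ᵁ W).ι ⁻¹ᵁ (π ⁻¹ᵁ A) by
          rw [← Scheme.Hom.comp_preimage, Scheme.homOfLE_ι],
        Scheme.Hom.image_preimage_eq_opensRange_inf, Scheme.Opens.opensRange_ι, ← Scheme.Hom.preimage_inf, hWA]
      exact (hA.basicOpen N).preimage π
  have : IsAffine (π ⁻¹ᵁ W).toScheme := isAffine_of_isAffineHom j
  haveI : IsLocallyNoetherian W.toScheme := isLocallyNoetherian_of_isOpenImmersion W.ι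
  haveI : CompactSpace ↥W.toScheme := isCompact_iff_compactSpace.mp (NoetherianSpace.isCompact _)
  haveI : IsNoetherian W.toScheme := ⟨⟩
  haveI : IsFinite (π ∣_ W) := MorphismProperty.of_isPullback (isPullback_morphismRestrict π W).flip ‹IsFinite π›
  haveI : Surjective (π ∣_ W) := MorphismProperty.of_isPullback (isPullback_morphismRestrict π W).flip ‹Surjective π›
  exact ChevAffine.isAffine_of_finite_surjective (π ∣_ W)

section Field

variable {k : Type u} [Field k]

/-- An affine open over an algebraic extension is defined at a finite level. -/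
theorem exists_level_affine {X : Scheme.{u}} [X.Over (Spec (CommRingCat.of k))]
    [QuasiCompact (X ↘ Spec (CommRingCat.of k))] [IsSeparated (X ↘ Spec (CommRingCat.of k))]
    {K : Type u} [Field K] [Algebra k K] [Algebra.IsAlgebraic k K]
    {U : (Curv2.bc k X K).Opens} (hU : IsAffineOpen U) :
    ∃ (F : IntermediateField k K) (_ : FiniteDimensional k F) (U' : (Curv2.bc k X F).Opens),
      IsAffineOpen U' ∧ GeomField.lvl F ⁻¹ᵁ U' = U := by
  classical
  choose F hFfin hF using fun v : U => GeomField.exists_open_descend (k := k) (X := X) U.2 v.2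
  choose V hV hvV hVU using fun (v : U) (F' : IntermediateField k K) (h : F v ≤ F') => hF v F' h
  obtain ⟨s, hs⟩ := hU.isCompact.elim_finite_subcover
    (fun v : U => FBaseLib.bcMap (X ↘ Spec (CommRingCat.of k)) (F v) K ⁻¹' V v (F v) le_rfl)
    (fun v => (hV v _ le_rfl).preimage (Scheme.Hom.continuous _)) (fun v hv => Set.mem_iUnion.2 ⟨⟨v, hv⟩, hvV _ _ _⟩)
  let F₀ : IntermediateField k K := ⨆ v ∈ s, F v
  have hfd : FiniteDimensional k F₀ := IntermediateField.finiteDimensional_iSup_of_finset' (fun v _ => hFfin v)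
  choose t hto htl htf using fun (v : U) (hv : v ∈ s) =>
    GeomField.exists_transition (X := X) (show F v ≤ F₀ from le_iSup₂ (f := fun v (_ : v ∈ s) => F v) v hv)
  let U' : (Curv2.bc k X F₀).Opens := ⟨⋃ v, ⋃ (hv : v ∈ s), t v hv ⁻¹' V v (F v) le_rfl,
    isOpen_iUnion fun v => isOpen_iUnion fun hv => (hV v _ le_rfl).preimage (Scheme.Hom.continuous _)⟩
  have hpre : GeomField.lvl F₀ ⁻¹ᵁ U' = U := by
    ext z
    have key : ∀ (v : U) (hv : v ∈ s), t v hv (GeomField.lvl F₀ z) = GeomField.lvl (F v) z := fun v hv =>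
      congr($(htl v hv).base z)
    constructor
    · intro hz
      obtain ⟨v, hv, h⟩ := Set.mem_iUnion₂.1 (show GeomField.lvl F₀ z ∈ U' from hz)
      refine hVU v (F v) le_rfl ?_
      show GeomField.lvl (F v) z ∈ V v (F v) le_rfl
      rw [← key v hv]
      exact h
    · intro hz
      obtain ⟨v, hv, h⟩ := Set.mem_iUnion₂.1 (hs hz)
      refine Set.mem_iUnion₂.2 ⟨v, hv, ?_⟩
      show _ ∈ V v (F v) le_rfl
      rw [key v hv]
      exact h
  refine ⟨F₀, hfd, U', ?_, hpre⟩
  let q := Spec.map (CommRingCat.ofHom (algebraMap F₀ K))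
  have sq : IsPullback (GeomField.lvl (X := X) F₀) (Curv2.bcSnd k X K) (Curv2.bcSnd k X F₀) q := by
    refine IsPullback.of_right ?_ (GeomField.lvl_snd F₀) (IsPullback.of_hasPullback _ _)
    rw [GeomField.lvl_fst, ← Spec.map_comp, ← CommRingCat.ofHom_comp, ← IsScalarTower.algebraMap_eq]
    exact IsPullback.of_hasPullback _ _
  have hsurj : Function.Surjective (GeomField.lvl (X := X) F₀) := GeomField.lvl_surjective F₀
  haveI : CompactSpace ↥U'.toScheme := by
    refine isCompact_iff_compactSpace.mp ?_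
    rw [← Set.image_preimage_eq (U' : Set _) hsurj]
    have : GeomField.lvl (X := X) F₀ ⁻¹' (U' : Set (Curv2.bc k X F₀)) = (U : Set (Curv2.bc k X K)) := by rw [← hpre]; rfl
    rw [this]
    exact hU.isCompact.image (Scheme.Hom.continuous _)
  haveI : IsAffine (GeomField.lvl F₀ ⁻¹ᵁ U').toScheme := hpre.symm ▸ hU
  haveI : Flat q := inferInstance
  haveI : Surjective q := ⟨fun x => ⟨IsLocalRing.closedPoint K, Subsingleton.elim (α := PrimeSpectrum F₀) _ _⟩⟩
  haveI : QuasiCompact (U'.ι ≫ Curv2.bcSnd k X F₀) := (quasiCompact_iff_compactSpace _).mpr inferInstance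
  haveI : IsSeparated (Curv2.bcSnd k X F₀) := MorphismProperty.pullback_snd _ _ inferInstance
  have sqU := (isPullback_morphismRestrict (GeomField.lvl F₀) U').flip.paste_horiz sq.flip |>.flip
  haveI : IsAffineHom (pullback.snd (U'.ι ≫ Curv2.bcSnd k X F₀) q) := by
    rw [← sqU.isoPullback_inv_snd]
    infer_instance
  haveI : IsAffineHom (U'.ι ≫ Curv2.bcSnd k X F₀) := H23.FFDescent.isAffineHom_of_baseChange _ q
  exact isAffine_of_isAffineHom (U'.ι ≫ Curv2.bcSnd k X F₀)

/-- Points over a closed point in an algebraic extension are finitely many closed points. -/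
theorem finite_preimage_closed {X : Scheme.{u}} [X.Over (Spec (CommRingCat.of k))]
    [LocallyOfFiniteType (X ↘ Spec (CommRingCat.of k))] (K : Type u) [Field K] [Algebra k K]
    {x : X} (hx : IsClosed ({x} : Set X)) :
    (Curv2.bcFst k X K ⁻¹' {x}).Finite ∧ ∀ z, Curv2.bcFst k X K z = x → IsClosed ({z} : Set (Curv2.bc k X K)) := by
  let ι := X.fromSpecResidueField x
  haveI : LocallyOfFiniteType ι := by
    obtain ⟨U, hU, hxU, -⟩ := exists_isAffineOpen_mem_and_subset (x := x) (U := ⊤) trivial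
    refine FtPts6.pts_iff.2 ⟨U, hU, hxU, ?_⟩
    have : ({⟨x, hxU⟩} : Set U) = Subtype.val ⁻¹' {x} := Set.ext fun y => Subtype.ext_iff
    rw [this]
    exact hx.preimage continuous_subtype_val
  let p := pullback.snd ι (Curv2.bcFst k X K)
  have hrange : Set.range p = Curv2.bcFst k X K ⁻¹' {x} := by
    rw [Scheme.Pullback.range_snd, Scheme.range_fromSpecResidueField]
  haveI : IsPreimmersion p := MorphismProperty.pullback_snd _ _ inferInstance
  haveI : IsClosedImmersion p := IsClosedImmersion.of_isPreimmersion p (hrange ▸ hx.preimage (Scheme.Hom.continuous _))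
  haveI : IsLocallyArtinian (Spec (X.residueField x)) := Scheme.isLocallyArtinianScheme_Spec.mpr inferInstance
  haveI : Subsingleton ↥(Spec (X.residueField x)) := inferInstanceAs (Subsingleton (PrimeSpectrum (X.residueField x)))
  haveI : LocallyOfFiniteType (ι ≫ X ↘ Spec (CommRingCat.of k)) := inferInstance
  haveI : LocallyQuasiFinite (ι ≫ X ↘ Spec (CommRingCat.of k)) :=
    LocallyQuasiFinite.of_finite_preimage_singleton _ fun _ => Set.toFinite _
  haveI : IsLocallyArtinian (Spec (CommRingCat.of K)) := Scheme.isLocallyArtinianScheme_Spec.mpr inferInstance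
  let e := pullbackRightPullbackFstIso (X ↘ Spec (CommRingCat.of k)) (Spec.map (CommRingCat.ofHom (algebraMap k K))) ι
  haveI : LocallyQuasiFinite (pullback.snd (ι ≫ X ↘ Spec (CommRingCat.of k))
    (Spec.map (CommRingCat.ofHom (algebraMap k K)))) := MorphismProperty.pullback_snd _ _ inferInstance
  haveI : IsLocallyArtinian (pullback (ι ≫ X ↘ Spec (CommRingCat.of k)) (Spec.map (CommRingCat.ofHom (algebraMap k K)))) :=
    .of_locallyQuasiFinite (pullback.snd _ _)
  haveI : CompactSpace ↥(pullback (ι ≫ X ↘ Spec (CommRingCat.of k)) (Spec.map (CommRingCat.ofHom (algebraMap k K)))) :=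
    QuasiCompact.compactSpace_of_compactSpace (pullback.snd _ _)
  haveI : DiscreteTopology ↥(pullback ι (Curv2.bcFst k X K)) := e.hom.homeomorph.isEmbedding.discreteTopology
  haveI : Finite ↥(pullback ι (Curv2.bcFst k X K)) := by
    haveI : Finite ↥(pullback (ι ≫ X ↘ Spec (CommRingCat.of k)) (Spec.map (CommRingCat.ofHom (algebraMap k K)))) :=
      finite_of_compact_of_discrete
    exact e.hom.homeomorph.toEquiv.finite_iff.2 inferInstance
  refine ⟨hrange ▸ Set.finite_range p, fun z hz => ?_⟩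
  obtain ⟨a, rfl⟩ := hrange.ge (show z ∈ Curv2.bcFst k X K ⁻¹' {x} from hz)
  rw [← Set.image_singleton]
  exact p.isClosedEmbedding.isClosedMap _ (isClosed_discrete _)

/-- A finite set of closed points of a group scheme over a field lies in an affine open. -/
theorem exists_affineOpen_closed (G : Over (Spec (CommRingCat.of k))) [GrpObj G] [LocallyOfFiniteType G.hom]
    [QuasiCompact G.hom] {T : Set G.left} (hT : T.Finite) (hTc : ∀ x ∈ T, IsClosed ({x} : Set G.left)) :
    ∃ U : G.left.Opens, IsAffineOpen U ∧ T ⊆ U := by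
  letI : G.left.Over (Spec (CommRingCat.of k)) := ⟨G.hom⟩
  haveI : IsSeparated G.hom := GrpSchLib.CharZeroPts.isSeparated_grp G
  haveI : LocallyOfFiniteType (G.left ↘ Spec (CommRingCat.of k)) := ‹LocallyOfFiniteType G.hom›
  haveI : QuasiCompact (G.left ↘ Spec (CommRingCat.of k)) := ‹QuasiCompact G.hom›
  haveI : IsSeparated (G.left ↘ Spec (CommRingCat.of k)) := ‹IsSeparated G.hom›
  let K := AlgebraicClosure k
  let GK := (Over.pullback (Spec.map (CommRingCat.ofHom (algebraMap k K)))).obj G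
  haveI : LocallyOfFiniteType GK.hom := MorphismProperty.pullback_snd _ _ ‹LocallyOfFiniteType G.hom›
  let S : Set (Curv2.bc k G.left K) := Curv2.bcFst k G.left K ⁻¹' T
  have hS : S.Finite := hT.preimage' fun t ht => (finite_preimage_closed K (hTc t ht)).1
  let g : Fin hS.toFinset.card → GK.left := fun i => (hS.toFinset.equivFin.symm i).1
  have hg : ∀ i, IsClosed ({g i} : Set GK.left) := fun i =>
    (finite_preimage_closed K (hTc _ (hS.mem_toFinset.1 (hS.toFinset.equivFin.symm i).2))).2 _ rfl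
  obtain ⟨U, hU, hgU⟩ := S1864.result K GK _ g hg
  have hSU : S ⊆ (U : Set GK.left) := fun z hz => by
    have := hgU (hS.toFinset.equivFin ⟨z, hS.mem_toFinset.2 hz⟩)
    simpa [g] using this
  obtain ⟨F, hF, U', hU', hpre⟩ := exists_level_affine (k := k) (X := G.left) (K := K) (U := U) hU
  haveI : IsFinite (Spec.map (CommRingCat.ofHom (algebraMap k F))) :=
    (IsFinite.SpecMap_iff _).mpr (RingHom.finite_algebraMap.2 hF)
  haveI : Surjective (Spec.map (CommRingCat.ofHom (algebraMap k F))) :=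
    ⟨fun x => ⟨IsLocalRing.closedPoint F, Subsingleton.elim (α := PrimeSpectrum k) _ _⟩⟩
  let π : Curv2.bc k G.left F ⟶ G.left := Curv2.bcFst k G.left F
  haveI : IsFinite π := MorphismProperty.pullback_fst _ _ inferInstance
  haveI : Flat π := MorphismProperty.pullback_fst _ _ inferInstance
  haveI : Surjective π := MorphismProperty.pullback_fst _ _ inferInstance
  haveI : IsLocallyNoetherian G.left := LocallyOfFiniteType.isLocallyNoetherian G.hom
  haveI : CompactSpace ↥G.left := QuasiCompact.compactSpace_of_compactSpace G.hom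
  haveI : IsNoetherian G.left := ⟨⟩
  haveI : LocallyOfFinitePresentation π := inferInstance
  refine exists_affineOpen_of_finite_flat π hU' hT fun z hz => ?_
  obtain ⟨w, rfl⟩ := GeomField.lvl_surjective F z
  have hw : w ∈ S := by
    show Curv2.bcFst k G.left K w ∈ T
    rw [← GeomField.lvl_fst_apply F w]
    exact hz
  exact (SetLike.ext_iff.1 hpre w).2 (hSU hw)

end Field

/-- A finite set of points of a group scheme over an Artinian ring lies in an affine open. -/
theorem exists_affineOpen_artinian (A : Type u) [CommRing A] [IsArtinianRing A]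
    (G : Over (Spec (CommRingCat.of A))) [GrpObj G] [LocallyOfFiniteType G.hom] [QuasiCompact G.hom]
    {T : Set G.left} (hT : T.Finite) :
    ∃ U : G.left.Opens, IsAffineOpen U ∧ T ⊆ U := by
  classical
  haveI : IsLocallyNoetherian G.left := LocallyOfFiniteType.isLocallyNoetherian G.hom
  haveI : CompactSpace ↥G.left := QuasiCompact.compactSpace_of_compactSpace G.hom
  haveI : IsNoetherian G.left := ⟨⟩
  choose c hct hcc using fun x : G.left =>
    (isClosed_closure (s := ({x} : Set G.left))).exists_closed_singleton ⟨x, subset_closure rfl⟩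
  suffices H : ∀ P : Spec (CommRingCat.of A), ∃ U : G.left.Opens, IsAffineOpen U ∧ (U : Set G.left) ⊆ G.hom ⁻¹' {P} ∧
      ∀ t ∈ T, G.hom (c t) = P → c t ∈ U by
    choose U hU hUP hUT using H
    haveI : Finite ↥(Spec (CommRingCat.of A)) := inferInstanceAs (Finite (PrimeSpectrum A))
    refine ⟨⨆ P, U P, IsAffineOpen.iSup_of_disjoint (fun P => hU P) ?_, fun t ht => ?_⟩
    · intro P Q hPQ
      show Disjoint (U P) (U Q)
      rw [← TopologicalSpace.Opens.coe_disjoint]
      exact Set.disjoint_left.mpr fun x hx hx' => hPQ ((hUP P hx).symm.trans (hUP Q hx'))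
    · exact (specializes_iff_mem_closure.2 (hct t)).mem_open (⨆ P, U P).2
        (TopologicalSpace.Opens.mem_iSup.mpr ⟨_, hUT _ t ht rfl⟩)
  intro P
  let κ := (Spec (CommRingCat.of A)).residueField P
  let b : Spec (CommRingCat.of κ) ⟶ Spec (CommRingCat.of A) := (Spec (CommRingCat.of A)).fromSpecResidueField P
  haveI : DiscreteTopology ↥(Spec (CommRingCat.of A)) := inferInstanceAs (DiscreteTopology (PrimeSpectrum A))
  haveI : IsClosedImmersion b := IsClosedImmersion.of_isPreimmersion b (isClosed_discrete _)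
  let GP := (Over.pullback b).obj G
  haveI : LocallyOfFiniteType GP.hom := MorphismProperty.pullback_snd _ _ ‹LocallyOfFiniteType G.hom›
  haveI : QuasiCompact GP.hom := MorphismProperty.pullback_snd _ _ ‹QuasiCompact G.hom›
  let i : GP.left ⟶ G.left := pullback.fst G.hom b
  haveI : IsClosedImmersion i := MorphismProperty.pullback_fst _ _ ‹IsClosedImmersion b›
  have hri : Set.range i = G.hom ⁻¹' {P} := by
    show Set.range (pullback.fst G.hom b) = _
    rw [Scheme.Pullback.range_fst]
    exact congrArg (⇑G.hom ⁻¹' ·) (Scheme.range_fromSpecResidueField P)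
  let T' : Set GP.left := i ⁻¹' (c '' T)
  have hT' : T'.Finite := (hT.image c).preimage i.isEmbedding.injective.injOn
  obtain ⟨V, hV, hTV⟩ := exists_affineOpen_closed GP hT' fun z hz => by
    obtain ⟨t, -, htz⟩ := hz
    have : ({z} : Set GP.left) = i ⁻¹' {c t} := by
      rw [htz, ← Set.image_singleton, i.isEmbedding.injective.preimage_image]
    rw [this]
    exact (hcc t).preimage i.continuous
  obtain ⟨O, hO, hOV⟩ := i.isEmbedding.isInducing.isOpen_iff.1 V.2
  let U : G.left.Opens := ⟨O ∩ G.hom ⁻¹' {P}, hO.inter ((isOpen_discrete _).preimage G.hom.continuous)⟩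
  have hiU : i ⁻¹ᵁ U = V := by
    ext z
    show i z ∈ O ∧ G.hom (i z) = P ↔ z ∈ V
    have h1 : i z ∈ O ↔ z ∈ V := Set.ext_iff.1 hOV z
    have h2 : G.hom (i z) = P := hri.le ⟨z, rfl⟩
    simp [h1, h2]
  refine ⟨U, ?_, fun x hx => hx.2, fun t ht htP => ?_⟩
  · haveI : IsAffine (i ⁻¹ᵁ U).toScheme := hiU.symm ▸ hV
    haveI : IsLocallyNoetherian U.toScheme := isLocallyNoetherian_of_isOpenImmersion U.ι
    haveI : CompactSpace ↥U.toScheme := isCompact_iff_compactSpace.mp (NoetherianSpace.isCompact _)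
    haveI : IsNoetherian U.toScheme := ⟨⟩
    haveI : IsFinite (i ∣_ U) := MorphismProperty.of_isPullback (isPullback_morphismRestrict i U).flip (inferInstance : IsFinite i)
    haveI : Surjective (i ∣_ U) := ⟨fun x => by
      obtain ⟨z, hz⟩ := hri.ge x.2.2
      exact ⟨⟨z, show i z ∈ U from hz.symm ▸ x.2⟩, Subtype.ext ((congr($(morphismRestrict_ι i U).base _)).trans hz)⟩⟩
    exact ChevAffine.isAffine_of_finite_surjective (i ∣_ U)
  · obtain ⟨z, hz⟩ := hri.ge (show c t ∈ G.hom ⁻¹' {P} from htP)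
    have : z ∈ i ⁻¹ᵁ U := hiU.symm ▸ (hTV ⟨t, ht, hz.symm⟩ : z ∈ V)
    exact hz ▸ this

end Groth.Agent.H84GrpAffine
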